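import Cfsg.Agent.H691.AN.Defs
import Cfsg.Agent.S4811
import Cfsg.Agent.S4812
import Cfsg.Agent.S0252
import Cfsg.Agent.S4771

/-!
# S4766, `n = 5`: a group with the degrees `1, 3, 4, 5` (helper544)

The degree graph has the vertices `2`, `3`, `5` and no edges, so it has three connected components: the group is not
solvable (S4811), so it is `SL₂(q) × A` by S4771.
-/

set_option autoImplicit false

namespace Cfsg.Agent.H544.AN

open Cfsg Cfsg.Agent.H691.AN Cfsg.Agent.H681.DegBasic Cfsg.Agent.S4812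

universe u

/-- `SL₂(4)` is the alternating group of degree 5 -/
theorem sl_four (F : Type) [Field F] [Fintype F] [CharP F 2] (hF : Fintype.card F = 4) :
    Nonempty (Matrix.SpecialLinearGroup (Fin 2) F ≃* An 5) := by
  obtain ⟨e⟩ := Cfsg.Agent.S0252.result hF
  have e' : Matrix.ProjectiveSpecialLinearGroup (Fin 2) F ≃* Matrix.SpecialLinearGroup (Fin 2) F :=
    (QuotientGroup.quotientMulEquivOfEq (center_eq_bot F)).trans QuotientGroup.quotientBot
  exact ⟨e'.symm.trans e⟩

/-- the degrees of `A₅` -/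
theorem mem_D_five {n : ℕ} : n ∈ D 5 ↔ n = 1 ∨ n = 3 ∨ n = 4 ∨ n = 5 := by
  have : Fintype (GaloisField 2 2) := Fintype.ofFinite _
  have hc : Fintype.card (GaloisField 2 2) = 4 := by
    rw [← Nat.card_eq_fintype_card, GaloisField.card 2 2 (by norm_num)]; norm_num
  obtain ⟨e⟩ := sl_four (GaloisField 2 2) hc
  rw [← charDegrees_equiv e, degrees (GaloisField 2 2) 4 hc le_rfl]

theorem primes_five {G : Type u} [Group G] (h : charDegrees G = D 5) (p : ℕ) :
    p ∈ degreePrimes G ↔ p = 2 ∨ p = 3 ∨ p = 5 := by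
  constructor
  · rintro ⟨hp, d, hd, hpd⟩
    rw [h, mem_D_five] at hd
    rcases hd with rfl | rfl | rfl | rfl
    · exact absurd (Nat.dvd_one.1 hpd) hp.one_lt.ne'
    · exact Or.inr (Or.inl ((Nat.prime_dvd_prime_iff_eq hp Nat.prime_three).1 hpd))
    · exact Or.inl ((Nat.prime_dvd_prime_iff_eq hp Nat.prime_two).1 (hp.dvd_of_dvd_pow (n := 2) hpd))
    · exact Or.inr (Or.inr ((Nat.prime_dvd_prime_iff_eq hp Nat.prime_five).1 hpd))
  · rintro (rfl | rfl | rfl)
    · exact ⟨Nat.prime_two, 4, by rw [h, mem_D_five]; simp, by norm_num⟩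
    · exact ⟨Nat.prime_three, 3, by rw [h, mem_D_five]; simp, by norm_num⟩
    · exact ⟨Nat.prime_five, 5, by rw [h, mem_D_five]; simp, by norm_num⟩

theorem components_five {G : Type u} [Group G] (h : charDegrees G = D 5) :
    Nat.card ((degreeGraph G).induce (degreePrimes G)).ConnectedComponent = 3 := by
  have hbot : (degreeGraph G).induce (degreePrimes G) = ⊥ := by
    ext a b
    rw [SimpleGraph.bot_adj, iff_false]
    rintro ⟨hne, hp, hq, d, hd, hdv⟩
    have hne' : (a : ℕ) ≠ b := hne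
    have hp' : (a : ℕ).Prime := hp
    have hq' : (b : ℕ).Prime := hq
    have hdv' : (a : ℕ) * b ∣ d := hdv
    rw [h, mem_D_five] at hd
    have h1 : (a : ℕ) ∣ d := (dvd_mul_right _ _).trans hdv'
    have h2 : (b : ℕ) ∣ d := (dvd_mul_left _ _).trans hdv'
    rcases hd with rfl | rfl | rfl | rfl
    · exact absurd (Nat.dvd_one.1 h1) hp'.one_lt.ne'
    · exact hne' (((Nat.prime_dvd_prime_iff_eq hp' Nat.prime_three).1 h1).trans
        ((Nat.prime_dvd_prime_iff_eq hq' Nat.prime_three).1 h2).symm)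
    · exact hne' (((Nat.prime_dvd_prime_iff_eq hp' Nat.prime_two).1 (hp'.dvd_of_dvd_pow (n := 2) h1)).trans
        ((Nat.prime_dvd_prime_iff_eq hq' Nat.prime_two).1 (hq'.dvd_of_dvd_pow (n := 2) h2)).symm)
    · exact hne' (((Nat.prime_dvd_prime_iff_eq hp' Nat.prime_five).1 h1).trans
        ((Nat.prime_dvd_prime_iff_eq hq' Nat.prime_five).1 h2).symm)
  rw [hbot]
  have hb : Function.Bijective (fun v : ↥(degreePrimes G) =>
      (⊥ : SimpleGraph ↥(degreePrimes G)).connectedComponentMk v) := by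
    constructor
    · intro v w hvw
      have h1 := SimpleGraph.ConnectedComponent.exact hvw
      exact SimpleGraph.reachable_bot.1 h1
    · intro c
      obtain ⟨v, rfl⟩ := c.exists_rep
      exact ⟨v, rfl⟩
  rw [← Nat.card_eq_of_bijective _ hb]
  have hset : degreePrimes G = ({2, 3, 5} : Set ℕ) := by
    ext p
    rw [primes_five h]
    simp
  rw [hset, Nat.card_coe_set_eq, Set.ncard_eq_toFinset_card']
  rfl

/-- **the case `n = 5`**, from S4771 -/
theorem e2_five_of (h4771 : ∀ {G : Type u} [Group G] [Finite G], ¬ Group.IsSolvable G →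
      (Nat.card ((degreeGraph G).induce (degreePrimes G)).ConnectedComponent = 3 ↔
        ∃ (F : Type) (_ : Field F) (_ : Fintype F) (A : Type) (_ : CommGroup A), CharP F 2 ∧ 4 ≤ Fintype.card F ∧
          Nonempty (G ≃* (Matrix.SpecialLinearGroup (Fin 2) F × A))))
    {G : Type u} [Group G] [Finite G] (h : charDegrees G = D 5) :
    ∃ (A : Type) (_ : CommGroup A), Nonempty (G ≃* (An 5 × A)) := by
  have hns : ¬ Group.IsSolvable G := by
    intro hs
    have h1 := Cfsg.Agent.S4811.result (G := G)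
    rw [components_five h] at h1
    omega
  obtain ⟨F, _, _, A, _, hF2, hF4, ⟨e⟩⟩ := (h4771 hns).1 (components_five h)
  refine ⟨A, inferInstance, ?_⟩
  have hq : Fintype.card F ∈ charDegrees G := by
    have h1 : Fintype.card F ∈ charDegrees (Matrix.SpecialLinearGroup (Fin 2) F) :=
      (degrees F _ rfl hF4 _).2 (Or.inr (Or.inr (Or.inl rfl)))
    exact charDegrees_comp ((MonoidHom.fst _ A).comp e.toMonoidHom)
      (fun x => ⟨e.symm (x, 1), by simp⟩) h1
  rw [h, mem_D_five] at hq
  have heven : 2 ∣ Fintype.card F := by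
    have h8 : (Fintype.card F : F) = 0 := FiniteField.cast_card_eq_zero F
    exact (CharP.cast_eq_zero_iff F 2 _).1 h8
  have h4 : Fintype.card F = 4 := by omega
  obtain ⟨e'⟩ := sl_four F h4
  exact ⟨e.trans (e'.prodCongr (MulEquiv.refl A))⟩

/-- **E2** -/
theorem e2_five {G : Type u} [Group G] [Finite G] (h : charDegrees G = D 5) :
    ∃ (A : Type) (_ : CommGroup A), Nonempty (G ≃* (An 5 × A)) :=
  e2_five_of (fun hG => Cfsg.Agent.S4771.result hG) h

end Cfsg.Agent.H544.AN
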